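import Cfsg.Agent.Lib.CosetEnum.Restrict
import Cfsg.Agent.Lib.CosetEnum.Simple
import Cfsg.Agent.Lib.CosetEnum.Fi23x31671.Orbits
import Cfsg.Agent.Lib.CosetEnum.Fi22x3510.Enum
import Cfsg.Agent.Lib.CosetEnum.Fi23Orbit.Data
import Cfsg.Agent.Lib.CosetEnum.Fi23Slp
import Cfsg.Agent.Lib.CosetEnum.Fi23Chain.L9

/-! The subgroup 2.Fi22 of Fi23: its action on the orbit of length 3510 and the exact orders. -/

set_option autoImplicit false
set_option maxRecDepth 20000
set_option Elab.async false

namespace Cfsg.Agent.Lib.CosetEnum.Fi23Orbit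

open Cfsg.Agent.Lib.CosetEnum

/-- The presented Fi23. -/
abbrev G : Type := PresentedGroup Fi23x31671.pres

/-- The subgroup generated by all generators but `j`. -/
noncomputable abbrev J : Subgroup G := subOf Fi23x31671.letters Fi23x31671.pres (emb.map fun g => [g])

theorem J_eq : subOf Fi23x31671.letters Fi23x31671.pres Fi23x31671.subWords = J := rfl

theorem restrict_ok : allBelow 3510 (restrictAt Fi23x31671.letters.K 31671 3510 Fi23x31671.table emb
    Fi23x31671.orbPts2 Fi23x31671.orbPos2 table) = true := by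
  decide +kernel

theorem perm_ok : permOK letters.K letters.IV 3510 table = true := by decide +kernel

theorem rels_ok : relsOK letters.K 3510 table letters.RL = true :=
  allBelow_add (allBelow_add (allBelow_add (allBelow_add (rfl : allBelow 0 (relAt letters.K table letters.RL) = true)
    (by decide +kernel : allFrom 0 900 (relAt letters.K table letters.RL) = true) (rfl : 0 + 900 = 900))
    (by decide +kernel : allFrom 900 900 (relAt letters.K table letters.RL) = true) (rfl : 900 + 900 = 1800))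
    (by decide +kernel : allFrom 1800 900 (relAt letters.K table letters.RL) = true) (rfl : 1800 + 900 = 2700))
    (by decide +kernel : allFrom 2700 810 (relAt letters.K table letters.RL) = true) (rfl : 2700 + 810 = 3510)

theorem table_ok : TableOK letters 3510 table where
  col a := Fi22x3510.table_ok.col a
  symcol := Fi22x3510.table_ok.symcol
  invol := Fi22x3510.table_ok.invol
  perm := perm_ok
  rel _ hl _ hi := relsOK_rel rels_ok hi hl

theorem zWord_lt : ∀ g ∈ zWord, g < Fi23x31671.letters.K := by decide +kernel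

theorem zWord_emb : ∀ g ∈ zWord, g ∈ emb := by decide +kernel

theorem zWord_fix :
    (allBelow 3510 fun m => Nat.beq (scan Fi23x31671.letters.K Fi23x31671.table zWord
      (get32 Fi23x31671.orbPts2 m)) (get32 Fi23x31671.orbPts2 m)) = true := by
  decide +kernel

theorem zWord_moves : scan Fi23x31671.letters.K Fi23x31671.table zWord 1 ≠ 1 := by decide +kernel

/-- The central involution of `J`. -/
noncomputable def z : J := ⟨(zWord.map (Fi23x31671.letters.phi _)).prod, by
  refine list_prod_mem fun x hx => ?_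
  obtain ⟨g, hg, rfl⟩ := List.mem_map.1 hx
  exact Subgroup.subset_closure ⟨[g], List.mem_map.2 ⟨g, zWord_emb g hg, rfl⟩, by simp⟩⟩

/-- Generators of `J`. -/
noncomputable def gen (g : ℕ) (hg : g < emb.length) : J :=
  ⟨Fi23x31671.letters.phi _ (emb.getD g 0), Subgroup.subset_closure ⟨[emb.getD g 0],
    List.mem_map.2 ⟨_, by rw [List.getD_eq_getElem _ _ hg]; exact List.getElem_mem hg, rfl⟩, by simp⟩⟩

theorem gen_closure : Subgroup.closure {x : J | ∃ g hg, gen g hg = x} = ⊤ := by
  rw [eq_top_iff]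
  rintro ⟨x, hx⟩ -
  induction hx using Subgroup.closure_induction with
  | mem x hx =>
    obtain ⟨l, hl, rfl⟩ := hx
    obtain ⟨e, he, rfl⟩ := List.mem_map.1 hl
    obtain ⟨g, hg, rfl⟩ := List.mem_iff_getElem.1 he
    refine Subgroup.subset_closure ⟨g, hg, Subtype.ext ?_⟩
    simp [gen, List.getElem?_eq_getElem hg]
  | one => exact Subgroup.one_mem _
  | mul a b _ _ ha hb => exact Subgroup.mul_mem _ ha hb
  | inv a _ ha => exact Subgroup.inv_mem _ ha

/-- Everything about the action of Fi23 and of the point stabiliser. -/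
theorem main : ∃ (ρ : G →* Equiv.Perm (Fin 31671)) (ρJ : J →* Equiv.Perm (Fin 3510)),
    (∀ g < Fi23x31671.letters.K, ∀ i : Fin 31671,
      ((ρ (Fi23x31671.letters.phi _ g))⁻¹ i).1 =
        get32 Fi23x31671.table (i.1 * Fi23x31671.letters.K + g)) ∧
    (∀ x, x ∈ J ↔ ρ x ⟨0, by omega⟩ = ⟨0, by omega⟩) ∧
    (∀ i, ∃ x, ρ x ⟨0, by omega⟩ = i) ∧ Function.Injective ρ ∧
    (∀ g, ∀ hg : g < emb.length, ∀ m : Fin 3510,
      ((ρJ (gen g hg))⁻¹ m).1 = get32 table (m.1 * emb.length + g)) ∧
    64561751654400 ≤ Nat.card ρJ.range ∧ ρJ z = 1 ∧ z ≠ 1 ∧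
    Nat.card G = 4089470473293004800 ∧ Nat.card J = 129123503308800 := by
  obtain ⟨ρ, hρ, hst, htr⟩ := Fi23x31671.enum.action
  replace hst : ∀ x, x ∈ J ↔ ρ x ⟨0, by omega⟩ = ⟨0, by omega⟩ := hst
  obtain ⟨ρJ, hρJ, hker⟩ := exists_restrict ρ hρ emb (by decide +kernel) _ _ _ restrict_ok
  have hz : ρ z.1 ≠ 1 := by
    intro h
    apply zWord_moves
    have := rho_scan Fi23x31671.letters _ ρ hρ zWord zWord_lt ⟨1, by omega⟩
    rw [show ρ (zWord.map (Fi23x31671.letters.phi _)).prod = 1 from h] at this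
    simpa using this.symm
  have hz' : ρJ z = 1 := by
    rw [hker]
    rintro i ⟨hi, hi'⟩
    have h := Nat.eq_of_beq_eq_true (allBelow_iff.1 zWord_fix _ hi')
    rw [← hi, ← rho_scan Fi23x31671.letters _ ρ hρ zWord zWord_lt i] at h
    have h' := congrArg (ρ z.1) (Fin.ext h : (ρ z.1)⁻¹ i = i)
    rw [Equiv.Perm.inv_def, Equiv.apply_symm_apply] at h'
    exact h'.symm
  have hJge : 64561751654400 ≤ Nat.card ρJ.range :=
    Fi23Slp.card_ge ρJ (fun g => if hg : g < emb.length then gen g hg else 1) fun g hg m => by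
      have hg' : g < emb.length := hg
      simp only [dif_pos hg']
      exact hρJ g hg' m
  have h2 := card_map_ge_double J ρ ρJ
    (fun x hx => (hker x).2 fun i _ => by rw [hx]; rfl) z hz' hz
  have hrange := card_range_ge_mul ρ _ htr J fun x hx => (hst x).1 hx
  have hidx : J.index = 31671 := Fi23x31671.enum.index
  obtain ⟨hG, hJ, hinj⟩ := card_of_bounds (B := 129123503308800) ρ (by omega) hidx
    Fi23Chain.L9.bound
    (le_trans (Nat.mul_le_mul_left _ (le_trans (by omega) h2)) hrange)
  exact ⟨ρ, ρJ, hρ, hst, htr, hinj, hρJ, hJge, hz',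
    fun h => hz (by rw [h]; exact map_one ρ), hG.trans (by norm_num), hJ⟩

end Cfsg.Agent.Lib.CosetEnum.Fi23Orbit
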